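import Mathlib

/-! Towers of purely inseparable field maps. -/

universe u

namespace Groth.Agent.RadPtLib

variable {F E K : Type u} [Field F] [Field E] [Field K] {a : F →+* E} {b : E →+* K}

theorem trans (ha : a.IsPurelyInseparable) (hb : b.IsPurelyInseparable) : (b.comp a).IsPurelyInseparable := by
  algebraize [a, b, b.comp a]
  exact IsPurelyInseparable.trans F E K

theorem of_comp_left (h : (b.comp a).IsPurelyInseparable) : b.IsPurelyInseparable := by
  algebraize [a, b, b.comp a]
  exact IsPurelyInseparable.tower_top F E K

theorem of_comp_right (h : (b.comp a).IsPurelyInseparable) : a.IsPurelyInseparable := by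
  algebraize [a, b, b.comp a]
  exact IsPurelyInseparable.tower_bot F E K

end Groth.Agent.RadPtLib
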