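import Mathlib
import Groth.Prelude.Def_EGA4Misc
import Groth.Agent.RadPtLib.Tower

/-! Radicial at a point = universally injective fibre. -/

set_option autoImplicit false
set_option backward.isDefEq.respectTransparency false
set_option backward.isDefEq.respectTransparency.types false

universe u

open CategoryTheory CategoryTheory.Limits AlgebraicGeometry

namespace Groth.Agent.RadPtLib

theorem bijective_residueFieldMap {X Y : Scheme.{u}} (f : X ⟶ Y) [IsPreimmersion f] (x : X) :
    Function.Bijective (f.residueFieldMap x).hom := by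
  refine ⟨RingHom.injective _, fun a => ?_⟩
  obtain ⟨b, rfl⟩ := X.residue_surjective x a
  obtain ⟨c, rfl⟩ := f.stalkMap_surjective x b
  exact ⟨Y.residue (f x) c, (ConcreteCategory.congr_hom (Scheme.residue_residueFieldMap f x) c)⟩

theorem isPurelyInseparable_of_bijective {F E : Type u} [Field F] [Field E] {a : F →+* E}
    (ha : Function.Bijective a) : a.IsPurelyInseparable := by
  algebraize [a]
  refine (isPurelyInseparable_iff_pow_mem F (ringExpChar F)).2 fun x => ⟨0, ?_⟩
  obtain ⟨y, rfl⟩ := ha.2 x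
  exact ⟨y, by simp; rfl⟩

theorem isPurelyInseparable_fiber_iff {X Y : Scheme.{u}} (f : X ⟶ Y) (y : Y) (p : f.fiber y) :
    ((f.fiberToSpecResidueField y).residueFieldMap p).hom.IsPurelyInseparable ↔
      (f.residueFieldMap (f.fiberι y p)).hom.IsPurelyInseparable := by
  have hι := isPurelyInseparable_of_bijective (bijective_residueFieldMap (f.fiberι y) p)
  have hs := isPurelyInseparable_of_bijective
    (bijective_residueFieldMap (Y.fromSpecResidueField y) (f.fiberToSpecResidueField y p))
  have aux : ∀ g₁ g₂ : f.fiber y ⟶ Y, g₁ = g₂ →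
      ((g₁.residueFieldMap p).hom.IsPurelyInseparable ↔ (g₂.residueFieldMap p).hom.IsPurelyInseparable) := by
    rintro g₁ _ rfl; rfl
  have hw : f.fiberι y ≫ f = f.fiberToSpecResidueField y ≫ Y.fromSpecResidueField y := pullback.condition
  have key := aux _ _ hw
  rw [Scheme.residueFieldMap_comp, Scheme.residueFieldMap_comp, CommRingCat.hom_comp, CommRingCat.hom_comp] at key
  constructor
  · exact fun h => of_comp_right (key.2 (trans hs h))
  · exact fun h => of_comp_left (key.1 (trans h hι))

theorem isRadicialAt_iff {X Y : Scheme.{u}} (f : X ⟶ Y) (y : Y) :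
    RadPt.IsRadicialAt f y ↔ UniversallyInjective (f.fiberToSpecResidueField y) := by
  have H := (tfae_universallyInjective (f.fiberToSpecResidueField y)).out 0 2 (a := UniversallyInjective _) (b := _ ∧ _) rfl rfl
  rw [H]
  have hr : ∀ x, x ∈ Set.range (f.fiberι y) ↔ f x = y := fun x => by
    rw [Scheme.Hom.range_fiberι]; rfl
  haveI : Subsingleton ↥(Spec (Y.residueField y)) := inferInstanceAs (Subsingleton (PrimeSpectrum _))
  constructor
  · rintro ⟨h1, h2⟩
    refine ⟨fun p q _ => (f.fiberι y).isEmbedding.injective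
      (h1 _ _ ((hr _).1 ⟨p, rfl⟩) ((hr _).1 ⟨q, rfl⟩)), fun p => ?_⟩
    exact (isPurelyInseparable_fiber_iff f y p).2 (h2 _ ((hr _).1 ⟨p, rfl⟩))
  · rintro ⟨h1, h2⟩
    refine ⟨fun x x' hx hx' => ?_, fun x hx => ?_⟩
    · obtain ⟨p, rfl⟩ := (hr x).2 hx
      obtain ⟨q, rfl⟩ := (hr x').2 hx'
      rw [h1 (Subsingleton.elim (f.fiberToSpecResidueField y p) (f.fiberToSpecResidueField y q))]
    · obtain ⟨p, rfl⟩ := (hr x).2 hx
      exact (isPurelyInseparable_fiber_iff f y p).1 (h2 p)

theorem isRadicialAt_iff_of_isPullback {X Y X' Y' : Scheme.{u}} {f : X ⟶ Y} {h : Y' ⟶ Y} {f' : X' ⟶ Y'}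
    {h' : X' ⟶ X} (sq : IsPullback h' f' f h) (y' : Y') :
    RadPt.IsRadicialAt f (h y') ↔ RadPt.IsRadicialAt f' y' := by
  rw [isRadicialAt_iff, isRadicialAt_iff]
  let g := Spec.map (h.residueFieldMap y')
  have hg : g ≫ Y.fromSpecResidueField (h y') = Y'.fromSpecResidueField y' ≫ h :=
    Scheme.Hom.SpecMap_residueFieldMap_fromSpecResidueField h y'
  have P : IsPullback (f'.fiberι y' ≫ h') (f'.fiberToSpecResidueField y') f
      (g ≫ Y.fromSpecResidueField (h y')) := by
    rw [hg]
    exact (IsPullback.of_hasPullback f' (Y'.fromSpecResidueField y')).paste_horiz sq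
  let m : f'.fiber y' ⟶ f.fiber (h y') :=
    pullback.lift (f'.fiberι y' ≫ h') (f'.fiberToSpecResidueField y' ≫ g) (by rw [P.w, Category.assoc])
  have Q : IsPullback m (f'.fiberToSpecResidueField y') (f.fiberToSpecResidueField (h y')) g := by
    have hm1 : m ≫ pullback.fst f (Y.fromSpecResidueField (h y')) = f'.fiberι y' ≫ h' := pullback.lift_fst _ _ _
    have hm2 : m ≫ f.fiberToSpecResidueField (h y') = f'.fiberToSpecResidueField y' ≫ g := pullback.lift_snd _ _ _
    exact IsPullback.of_right (by rw [hm1]; exact P) hm2 (IsPullback.of_hasPullback _ _)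
  haveI : Surjective g := by
    refine ⟨fun s => ⟨(⊥ : PrimeSpectrum (Y'.residueField y')), ?_⟩⟩
    haveI : Subsingleton ↥(Spec (Y.residueField (h y'))) := inferInstanceAs (Subsingleton (PrimeSpectrum _))
    exact Subsingleton.elim _ _
  haveI : Flat g := inferInstance
  haveI : QuasiCompact g := inferInstance
  constructor
  · exact fun H => MorphismProperty.of_isPullback (P := @UniversallyInjective) Q H
  · exact fun H => MorphismProperty.of_isPullback_of_descendsAlong (P := @UniversallyInjective)
      (Q := @Surjective ⊓ @Flat ⊓ @QuasiCompact) Q.flip ⟨⟨‹_›, ‹_›⟩, ‹_›⟩ H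

end Groth.Agent.RadPtLib
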